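import Groth.Agent.ArtfunDeform.HomTan.MorOfDer

/-!
Derivations from morphisms out of `X ×_k Spec k[ε]`.
-/

set_option autoImplicit false
set_option linter.style.longLine false

noncomputable section

universe u

open CategoryTheory CategoryTheory.Limits AlgebraicGeometry Opposite
open ArtFun ArtFun.Art

namespace Groth.ArtfunDeform.HomTan

open HilbAffine HilbGlue HilbTangent
open Groth.PicAux (resX)

variable {k : Type u} [Field k] {X Y : Scheme.{u}} {x : X ⟶ specPt k} {y : Y ⟶ specPt k} {f : X ⟶ Y}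

local notation "D" => (ArtFun.Art.dual k k)

/-- Functions equal on affine opens are equal. -/
theorem eq_of_affine {W : X.Opens} (a b : Γ(X, W))
    (h : ∀ (U : X.affineOpens) (e : U.1 ≤ W), resX X e a = resX X e b) : a = b := by
  refine Groth.CohTwo.eq_of_local (Coh.structureModule X) (W := W) a b fun z hz => ?_
  obtain ⟨U, hzU, hU⟩ := Groth.Divisors.exists_affine_le z W hz
  exact ⟨U.1, hU, hzU, h U hU⟩

variable {φ : XA x (ArtFun.Art.dual k k) ⟶ Y} (hφ : XAincl x (ArtFun.Art.dual k k) ≫ φ = f)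

include hφ in
theorem pre_le (U : X.affineOpens) {V : Y.Opens} (e : U.1 ≤ f ⁻¹ᵁ V) : (pre x D U).1 ≤ φ ⁻¹ᵁ V := by
  intro z hz
  obtain ⟨w, rfl⟩ := incl_surjective x D z
  have hw : w ∈ U.1 := by rw [← incl_pre x D U]; exact hz
  have h : f w ∈ V := e hw
  rw [← hφ, Scheme.Hom.comp_apply] at h
  exact h

include hφ in
theorem fib_appLE (U : X.affineOpens) {V : Y.Opens} (e : U.1 ≤ f ⁻¹ᵁ V) (s : Γ(Y, V)) :
    fib x D U (φ.appLE V (pre x D U).1 (pre_le hφ U e) s) = f.appLE V U.1 e s :=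
  ConcreteCategory.congr_hom ((Scheme.Hom.appLE_comp_appLE _ _ V (pre x D U).1 U.1 (pre_le hφ U e) (incl_pre x D U).ge).trans
    (appLE_eq hφ _ _ _ _)) s

include hφ in
theorem appLE_resX {U W : X.affineOpens} (h : W.1 ≤ U.1) {V : Y.Opens} (e : U.1 ≤ f ⁻¹ᵁ V) (s : Γ(Y, V)) :
    resX _ (pre_mono x D h) (φ.appLE V (pre x D U).1 (pre_le hφ U e) s) = φ.appLE V (pre x D W).1 (pre_le hφ W (h.trans e)) s :=
  ConcreteCategory.congr_hom (Scheme.Hom.appLE_map φ (pre_le hφ U e) (homOfLE (pre_mono x D h)).op) s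

/-- The characterising condition on the first order part. -/
def IsDel (V : Y.Opens) (s : Γ(Y, V)) (t : Γ(X, f ⁻¹ᵁ V)) : Prop :=
  ∀ (U : X.affineOpens) (e : U.1 ≤ f ⁻¹ᵁ V),
    resX X e t = del x U (φ.appLE V (pre x D U).1 (pre_le hφ U e) s)

theorem IsDel.unique {V : Y.Opens} {s : Γ(Y, V)} {t t' : Γ(X, f ⁻¹ᵁ V)} (h : IsDel hφ V s t) (h' : IsDel hφ V s t') :
    t = t' := eq_of_affine t t' fun U e => (h U e).trans (h' U e).symm

theorem exists_isDel (V : Y.Opens) (s : Γ(Y, V)) : ∃ t, IsDel hφ V s t := by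
  let ι := {U : X.affineOpens // U.1 ≤ f ⁻¹ᵁ V}
  let d : ∀ i : ι, Γ(X, i.1.1) := fun i => del x i.1 (φ.appLE V (pre x D i.1).1 (pre_le hφ i.1 i.2) s)
  have hd : ∀ (i j : ι) (W : X.affineOpens) (hi : W.1 ≤ i.1.1) (hj : W.1 ≤ j.1.1), resX X hi (d i) = resX X hj (d j) :=
    fun i j W hi hj => by
      rw [← del_res x i.1 hi, ← del_res x j.1 hj, appLE_resX hφ hi i.2, appLE_resX hφ hj j.2]
  obtain ⟨t, ht⟩ := Groth.CohTwo.exists_glue (Coh.structureModule X) (W := f ⁻¹ᵁ V) (fun i : ι => i.1.1) (fun i => i.2)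
    (fun z hz => by
      obtain ⟨U, hzU, hU⟩ := Groth.Divisors.exists_affine_le z _ hz
      exact ⟨⟨U, hU⟩, hzU⟩)
    d (fun i j => eq_of_affine (X := X) (W := i.1.1 ⊓ j.1.1) _ _ fun W e => by
      have h := hd i j W (e.trans inf_le_left) (e.trans inf_le_right)
      exact (Groth.PicAux.resX_resX _ _ _).trans (h.trans (Groth.PicAux.resX_resX _ _ _).symm))
  exact ⟨t, fun U e => ht ⟨U, e⟩⟩

/-- The first order part of a morphism. -/
def delSec (V : Y.Opens) (s : Γ(Y, V)) : Γ(X, f ⁻¹ᵁ V) := (exists_isDel hφ V s).choose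

theorem isDel_delSec (V : Y.Opens) (s : Γ(Y, V)) : IsDel hφ V s (delSec hφ V s) := (exists_isDel hφ V s).choose_spec

variable (hy : φ ≫ y = XApr x (ArtFun.Art.dual k k) ≫ specOver (ArtFun.Art.dual k k)) (hf : f ≫ y = x)

include hy hf in
theorem appLE_const (U : X.affineOpens) {W : (specPt k).Opens} (e : U.1 ≤ f ⁻¹ᵁ y ⁻¹ᵁ W) (c : Γ(specPt k, W)) :
    φ.appLE (y ⁻¹ᵁ W) (pre x D U).1 (pre_le hφ U e) (y.app W c) = sect x D U (f.appLE (y ⁻¹ᵁ W) U.1 e (y.app W c)) := by
  have h1 : φ ≫ y = (pr x ≫ f) ≫ y := by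
    rw [hy, Category.assoc, hf]
    exact (pullback.condition (f := x) (g := specOver D)).symm
  have a : y.app W ≫ φ.appLE (y ⁻¹ᵁ W) (pre x D U).1 (pre_le hφ U e) =
      y.app W ≫ f.appLE (y ⁻¹ᵁ W) U.1 e ≫ (pr x).appLE U.1 (pre x D U).1 le_rfl := by
    rw [Scheme.Hom.app_eq_appLE]
    refine (Scheme.Hom.appLE_comp_appLE φ y W (y ⁻¹ᵁ W) _ le_rfl _).trans ?_
    refine Eq.trans ?_ (congrArg (y.appLE W (y ⁻¹ᵁ W) le_rfl ≫ ·)
      (Scheme.Hom.appLE_comp_appLE (pr x) f (y ⁻¹ᵁ W) U.1 (pre x D U).1 e le_rfl)).symm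
    refine Eq.trans ?_ (Scheme.Hom.appLE_comp_appLE (pr x ≫ f) y W (y ⁻¹ᵁ W) _ le_rfl _).symm
    exact appLE_eq h1 _ _ _ _
  exact ConcreteCategory.congr_hom a c

/-- The derivation attached to a morphism. -/
def der : OmegaSh.Der y ((Scheme.Modules.pushforward f).obj (Coh.structureModule X)) where
  d {V} := AddMonoidHom.mk' (fun s => OmegaSh.strSect X _ (delSec hφ V.unop s)) fun a b =>
    (isDel_delSec hφ _ (a + b)).unique hφ fun U e => by
      change resX X e (delSec hφ V.unop a + delSec hφ V.unop b) = _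
      rw [map_add, isDel_delSec hφ _ a U e, isDel_delSec hφ _ b U e, map_add, del_add]
  d_mul {V} a b :=
    (isDel_delSec hφ _ (a * b)).unique hφ fun U e => by
      change resX X e (f.app V.unop a * delSec hφ V.unop b + f.app V.unop b * delSec hφ V.unop a) = _
      rw [map_add, map_mul, map_mul, isDel_delSec hφ _ a U e, isDel_delSec hφ _ b U e, map_mul, del_mul,
        fib_appLE hφ, fib_appLE hφ]
      rfl
  d_map {V W} i s :=
    (isDel_delSec hφ _ _).unique hφ fun U e => by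
      change resX X e (resX X (fun _ hz => i.unop.le hz) (delSec hφ V.unop s)) = _
      refine ((Groth.PicAux.resX_resX _ _ _).trans (isDel_delSec hφ _ s U (e.trans fun _ hz => i.unop.le hz))).trans ?_
      exact congrArg (del x U) (ConcreteCategory.congr_hom (Scheme.Hom.map_appLE φ (pre_le hφ U e) i) s).symm
  d_app {W} c :=
    (isDel_delSec hφ _ _).unique hφ fun U e => by
      change resX X e 0 = _
      rw [map_zero]
      refine Eq.symm ((congrArg (del x U) (appLE_const hφ hy hf U e c)).trans ?_)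
      refine (del_eq x U (f := f.appLE (y ⁻¹ᵁ W.unop) U.1 e (y.app W.unop c)) (s := 0) ?_).trans (map_zero _)
      rw [mul_zero, add_zero]

theorem dl_der : ∀ V s, dl y f (der hφ hy hf) V s = delSec hφ V s := fun _ _ => rfl

theorem isDel_mor (δ : OmegaSh.Der y ((Scheme.Modules.pushforward f).obj (Coh.structureModule X))) (V : Y.Opens)
    (s : Γ(Y, V)) : IsDel (incl_mor x y f δ) V s (dl y f δ V s) := fun U e => by
  refine Eq.symm ((congrArg (del x U) (mor_appLE x y f δ V U e _ s)).trans ?_)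
  exact (del_eq x U rfl).trans (fib_sect x D U _)

theorem mor_der : mor x y f (der hφ hy hf) = φ := by
  refine hom_ext_appLE _ _ (fun z => ?_) fun V U ea eb => CommRingCat.hom_ext (RingHom.ext fun s => ?_)
  · obtain ⟨w, rfl⟩ := incl_surjective x D z
    rw [← Scheme.Hom.comp_apply, ← Scheme.Hom.comp_apply, incl_mor, hφ]
  · obtain ⟨U', rfl⟩ := exists_pre_eq x D U
    have e : U'.1 ≤ f ⁻¹ᵁ V.1 := fun w hw => by
      have := eb (show XAincl x D w ∈ (pre x D U').1 by rw [← incl_pre x D U'] at hw; exact hw)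
      rw [← hφ]
      exact this
    change (mor x y f (der hφ hy hf)).appLE V.1 (pre x D U').1 ea s = φ.appLE V.1 (pre x D U').1 eb s
    rw [mor_appLE x y f _ V.1 U' e ea, dl_der, isDel_delSec hφ V.1 s U' e,
      ← fib_appLE hφ U' e s]
    exact (del_spec x U' _ (fib_sect x D U' _)).symm

end Groth.ArtfunDeform.HomTan
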