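import Groth.Agent.ArtfunDeform.HomTan.DerOfMor
import Groth.Agent.OmegaSheaf.Universal
import Groth.Prelude.Def_KLin

/-!
The first order part is linear.
-/

set_option autoImplicit false
set_option linter.style.longLine false

noncomputable section

universe u

open CategoryTheory CategoryTheory.Limits AlgebraicGeometry Opposite
open ArtFun ArtFun.Art

namespace Groth.ArtfunDeform.HomTan

open HilbAffine HilbGlue HilbTangent
open Groth.PicAux (resX)

variable {k : Type u} [Field k] {X Y : Scheme.{u}} {x : X ⟶ specPt k} {y : Y ⟶ specPt k} {f : X ⟶ Y}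

local notation "D" => (ArtFun.Art.dual k k)
local notation "D₂" => (ArtFun.Art.dual2 k k)

theorem pre_le' {A : Art k k} {φ : XA x A ⟶ Y} (hφ : XAincl x A ≫ φ = f) (U : X.affineOpens) {V : Y.Opens}
    (e : U.1 ≤ f ⁻¹ᵁ V) : (pre x A U).1 ≤ φ ⁻¹ᵁ V := by
  intro z hz
  obtain ⟨w, rfl⟩ := incl_surjective x A z
  have hw : w ∈ U.1 := by rw [← incl_pre x A U]; exact hz
  have h : f w ∈ V := e hw
  rw [← hφ, Scheme.Hom.comp_apply] at h
  exact h

theorem fib_appLE' {A : Art k k} {φ : XA x A ⟶ Y} (hφ : XAincl x A ≫ φ = f) (U : X.affineOpens) {V : Y.Opens}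
    (e : U.1 ≤ f ⁻¹ᵁ V) (s : Γ(Y, V)) :
    fib x A U (φ.appLE V (pre x A U).1 (pre_le' hφ U e) s) = f.appLE V U.1 e s :=
  ConcreteCategory.congr_hom ((Scheme.Hom.appLE_comp_appLE _ _ V (pre x A U).1 U.1 (pre_le' hφ U e) (incl_pre x A U).ge).trans
    (appLE_eq hφ _ _ _ _)) s

theorem appLE_XAmap {A B : Art k k} (g : A ⟶ B) {φ : XA x A ⟶ Y} (U : X.affineOpens) {V : Y.Opens}
    (e₁ : (pre x A U).1 ≤ φ ⁻¹ᵁ V) (e₂ : (pre x B U).1 ≤ (XAmap x g ≫ φ) ⁻¹ᵁ V) (s : Γ(Y, V)) :
    (XAmap x g ≫ φ).appLE V (pre x B U).1 e₂ s = red x g U (φ.appLE V (pre x A U).1 e₁ s) :=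
  (ConcreteCategory.congr_hom (Scheme.Hom.appLE_comp_appLE (XAmap x g) φ V (pre x A U).1 (pre x B U).1 e₁ (map_pre x g U).ge) s).symm

theorem incl_map {A B : Art k k} (g : A ⟶ B) {φ : XA x A ⟶ Y} (hφ : XAincl x A ≫ φ = f) :
    XAincl x B ≫ XAmap x g ≫ φ = f := by
  rw [← Category.assoc, XAincl_XAmap, hφ]

theorem map_comp {A B : Art k k} (g : A ⟶ B) {φ : XA x A ⟶ Y} (hy : φ ≫ y = XApr x A ≫ specOver A) :
    (XAmap x g ≫ φ) ≫ y = XApr x B ≫ specOver B := by
  rw [Category.assoc, hy, ← Category.assoc, XAmap_snd, Category.assoc, specOver_comp]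

theorem delSec_scale (c : k) {φ : XA x (ArtFun.Art.dual k k) ⟶ Y} (hφ : XAincl x (ArtFun.Art.dual k k) ≫ φ = f)
    (V : Y.Opens) (s : Γ(Y, V)) :
    delSec (incl_map (scale c) hφ) V s = resX X le_top (Coh.toGlobal x c) * delSec hφ V s := by
  refine eq_of_affine _ _ fun U e => ?_
  refine Eq.trans ?_ ((map_mul (resX X e) _ _).trans
    (congrArg (· * _) (Groth.PicAux.resX_resX le_top e (Coh.toGlobal x c)))).symm
  rw [isDel_delSec (incl_map (scale c) hφ) V s U e, isDel_delSec hφ V s U e, appLE_XAmap (scale c) U (pre_le hφ U e)]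
  obtain ⟨u, hu⟩ := decomp x U (φ.appLE V (pre x D U).1 (pre_le hφ U e) s)
  have hred : red x (scale c) U (φ.appLE V (pre x D U).1 (pre_le hφ U e) s) =
      sect x D U (fib x D U (φ.appLE V (pre x D U).1 (pre_le hφ U e) s)) +
        ce x U * (coef x D U (algebraMap k D c) * red x (scale c) U u) := by
    conv_lhs => rw [hu]
    rw [map_add, map_mul, red_sect, ce, red_coef, scale_eps, map_mul]
    ring
  rw [del_eq x U hred, map_mul, fib_red, fib_coef_algebraMap, ← del_eq x U hu]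

theorem delSec_plus {ψ : XA x (ArtFun.Art.dual2 k k) ⟶ Y} (hψ : XAincl x (ArtFun.Art.dual2 k k) ≫ ψ = f)
    (V : Y.Opens) (s : Γ(Y, V)) :
    delSec (incl_map plus hψ) V s = delSec (incl_map pr₁ hψ) V s + delSec (incl_map pr₂ hψ) V s := by
  refine eq_of_affine _ _ fun U e => ?_
  rw [map_add, isDel_delSec (incl_map plus hψ) V s U e, isDel_delSec (incl_map pr₁ hψ) V s U e,
    isDel_delSec (incl_map pr₂ hψ) V s U e, appLE_XAmap plus U (pre_le' hψ U e), appLE_XAmap pr₁ U (pre_le' hψ U e),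
    appLE_XAmap pr₂ U (pre_le' hψ U e)]
  generalize ψ.appLE V (pre x D₂ U).1 (pre_le' hψ U e) s = g
  have hd : g - sect x D₂ U (fib x D₂ U g) ∈ RingHom.ker (fib x D₂ U) := by
    rw [RingHom.mem_ker, map_sub, fib_sect, sub_self]
  rw [(fib_spec x D₂ U).2] at hd
  have hd' := Ideal.map_mono maximal_dual2 hd
  rw [Ideal.map_span, Set.image_pair] at hd'
  obtain ⟨a, b, hab⟩ := Ideal.mem_span_pair.1 hd'
  have hg' : g = sect x D₂ U (fib x D₂ U g) + (a * coef x D₂ U e₁ + b * coef x D₂ U e₂) := by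
    rw [hab, add_sub_cancel]
  have p11 : pr₁ (e₁ : D₂) = (eps : D) := rfl
  have p12 : pr₁ (e₂ : D₂) = (0 : D) := TrivSqZeroExt.ext rfl rfl
  have p21 : pr₂ (e₁ : D₂) = (0 : D) := TrivSqZeroExt.ext rfl rfl
  have p22 : pr₂ (e₂ : D₂) = (eps : D) := rfl
  have q1 : plus (e₁ : D₂) = (eps : D) := TrivSqZeroExt.ext rfl (add_zero (1 : k))
  have q2 : plus (e₂ : D₂) = (eps : D) := TrivSqZeroExt.ext rfl (zero_add (1 : k))
  have hred : ∀ (p : D₂ ⟶ D) (u : Sec x D U), ce x U * u =
      red x p U a * coef x D U (p e₁) + red x p U b * coef x D U (p e₂) →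
        red x p U g = sect x D U (fib x D₂ U g) + ce x U * u := fun p u hu => by
    conv_lhs => rw [hg']
    rw [map_add, map_add, map_mul, map_mul, red_sect, red_coef, red_coef, hu]
  rw [del_eq x U (hred pr₁ (red x pr₁ U a) (by rw [p11, p12, map_zero, ce]; ring)),
    del_eq x U (hred pr₂ (red x pr₂ U b) (by rw [p21, p22, map_zero, ce]; ring)),
    del_eq x U (hred plus (red x plus U a + red x plus U b) (by rw [q1, q2, ce]; ring)),
    map_add, fib_red, fib_red, fib_red, fib_red]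

/-- Derivations are determined by their values. -/
theorem der_ext {δ δ' : OmegaSh.Der y ((Scheme.Modules.pushforward f).obj (Coh.structureModule X))}
    (h : ∀ V s, dl y f δ V s = dl y f δ' V s) : δ = δ' := by
  ext V s
  exact h V.unop s

variable [QuasiSeparated y]

variable (y f) in
/-- Maps of forms. -/
abbrev Wt : Type u := Omega.sheaf y ⟶ (Scheme.Modules.pushforward f).obj (Coh.structureModule X)

/-- The map on forms of a derivation. -/
def omegaHom (δ : OmegaSh.Der y ((Scheme.Modules.pushforward f).obj (Coh.structureModule X))) : Wt y f :=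
  (Groth.OmegaSheaf.isUniversal_dOmega y _ δ).choose

theorem omegaHom_app (δ : OmegaSh.Der y ((Scheme.Modules.pushforward f).obj (Coh.structureModule X))) (V : Y.Opens)
    (s : Γ(Y, V)) : (omegaHom δ).app V ((OmegaSh.dOmega y).app V s) = δ.app V s := by
  have h := (Groth.OmegaSheaf.isUniversal_dOmega y _ δ).choose_spec.1
  exact congr(($h).d (X := op V) s)

theorem omegaHom_bijective : Function.Bijective (omegaHom (y := y) (f := f)) := by
  constructor
  · intro δ δ' h
    rw [← (Groth.OmegaSheaf.isUniversal_dOmega y _ δ).choose_spec.1, ← (Groth.OmegaSheaf.isUniversal_dOmega y _ δ').choose_spec.1]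
    exact congrArg (fun α : Wt y f => (OmegaSh.dOmega y).postcomp α.val) h
  · intro α
    exact ⟨(OmegaSh.dOmega y).postcomp α.val,
      ((Groth.OmegaSheaf.isUniversal_dOmega y _ _).choose_spec.2 α rfl).symm⟩

variable (y f) in
/-- Morphisms extending `f` over an Artinian algebra. -/
def MorSet (x : X ⟶ specPt k) (A : Art k k) : Type u :=
  {φ : XA x A ⟶ Y // XAincl x A ≫ φ = f ∧ φ ≫ y = XApr x A ≫ specOver A}

/-- Functoriality. -/
def MorSet.map {A B : Art k k} (g : A ⟶ B) (φ : MorSet y f x A) : MorSet y f x B :=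
  ⟨XAmap x g ≫ φ.1, incl_map g φ.2.1, map_comp g φ.2.2⟩

variable (hf : f ≫ y = x)

/-- The tangent map. -/
def toW (φ : MorSet y f x (ArtFun.Art.dual k k)) : Wt y f := omegaHom (der φ.2.1 φ.2.2 hf)

theorem toW_bijective : Function.Bijective (toW (x := x) hf) := by
  constructor
  · intro φ ψ h
    have h2 := omegaHom_bijective.1 h
    exact Subtype.ext ((mor_der φ.2.1 φ.2.2 hf).symm.trans ((congrArg (mor x y f) h2).trans (mor_der ψ.2.1 ψ.2.2 hf)))
  · intro α
    obtain ⟨δ, rfl⟩ := omegaHom_bijective.2 α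
    refine ⟨⟨mor x y f δ, incl_mor x y f δ, mor_comp x y f δ hf⟩, congrArg omegaHom (der_ext fun V s => ?_)⟩
    exact (isDel_delSec (incl_mor x y f δ) V s).unique (incl_mor x y f δ) (isDel_mor δ V s)

theorem toW_scale (c : k) (φ : MorSet y f x (ArtFun.Art.dual k k)) :
    (letI : Y.Over (Spec (CommRingCat.of k)) := ⟨y⟩
    toW hf (φ.map (scale c)) = c • toW hf φ) := by
  refine Groth.OmegaSheaf.hom_ext_d y fun ch s => ?_
  let _ : Y.Over (Spec (CommRingCat.of k)) := ⟨y⟩
  rw [KLin.smul_app_apply]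
  simp only [toW, omegaHom_app]
  change delSec (incl_map (scale c) φ.2.1) ch.U s = f.app ch.U (Y.presheaf.map (homOfLE le_top).op (Coh.toGlobal y c)) * delSec φ.2.1 ch.U s
  rw [delSec_scale c φ.2.1]
  refine congrArg (· * _) ?_
  rw [← hf, KLin.toGlobal_comp]
  exact f_app_res f le_top (Coh.toGlobal y c)

theorem toW_plus (ψ : MorSet y f x (ArtFun.Art.dual2 k k)) :
    toW hf (ψ.map pr₁) + toW hf (ψ.map pr₂) = toW hf (ψ.map plus) := by
  refine Groth.OmegaSheaf.hom_ext_d y fun ch s => ?_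
  rw [Scheme.Modules.Hom.add_app]
  change (omegaHom _).app ch.U _ + (omegaHom _).app ch.U _ = _
  simp only [toW, omegaHom_app]
  exact (delSec_plus ψ.2.1 ch.U s).symm

end Groth.ArtfunDeform.HomTan
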