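import Groth.Prelude.Def_ArtFun
import Mathlib.RingTheory.Ideal.Cotangent
import Mathlib.RingTheory.LocalRing.ResidueField.Basic
import Mathlib.LinearAlgebra.Dual.Lemmas

/-!
The dual of the cotangent space of a local algebra with rational residue field, by points over dual numbers.
-/

set_option autoImplicit false
set_option linter.style.longLine false

noncomputable section

universe u v

open CategoryTheory
open ArtFun ArtFun.Art
open IsLocalRing (maximalIdeal)

namespace Groth.ArtfunDeform.HomTan

variable {k : Type u} [Field k] {R : Type u} [CommRing R] [IsLocalRing R] [Algebra k R] (res : R →ₐ[k] k)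
  (hres : Function.Surjective res)

theorem mem_max_iff (hres : Function.Surjective res) (r : R) : r ∈ maximalIdeal R ↔ res r = 0 := by
  have hmax : (RingHom.ker (res : R →+* k)).IsMaximal := RingHom.ker_isMaximal_of_surjective (res : R →+* k) hres
  rw [← IsLocalRing.eq_maximalIdeal hmax, RingHom.mem_ker]
  rfl

/-- The maximal ideal part of an element. -/
def mpart (r : R) : maximalIdeal R :=
  ⟨r - algebraMap k R (res r), (mem_max_iff res hres _).2 (by rw [map_sub, res.commutes, Algebra.algebraMap_self, RingHom.id_apply, sub_self])⟩

/-- The differential at the point. -/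
def dPt : R →ₗ[k] IsLocalRing.CotangentSpace R where
  toFun r := (maximalIdeal R).toCotangent (mpart res hres r)
  map_add' a b := by
    rw [← map_add]
    refine congrArg _ (Subtype.ext ?_)
    change a + b - algebraMap k R (res (a + b)) = (a - algebraMap k R (res a)) + (b - algebraMap k R (res b))
    rw [map_add, map_add]
    ring
  map_smul' c a := by
    refine Eq.trans (congrArg _ (Subtype.ext ?_ : mpart res hres (c • a) = c • mpart res hres a))
      (LinearMap.map_smul_of_tower _ c _)
    change c • a - algebraMap k R (res (c • a)) = c • (a - algebraMap k R (res a))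
    rw [smul_sub, map_smul, smul_eq_mul, map_mul, Algebra.smul_def c (algebraMap k R (res a))]

theorem dPt_mem (m : maximalIdeal R) : dPt res hres m.1 = (maximalIdeal R).toCotangent m := by
  refine congrArg _ (Subtype.ext ?_)
  change m.1 - algebraMap k R (res m.1) = m.1
  rw [(mem_max_iff res hres _).1 m.2, map_zero, sub_zero]

theorem dPt_mul (a b : R) : dPt res hres (a * b) = res a • dPt res hres b + res b • dPt res hres a := by
  rw [← map_smul, ← map_smul, ← map_add]
  refine (Ideal.toCotangent_eq (maximalIdeal R)).2 ?_
  have h : (mpart res hres (a * b) : R) - mpart res hres (res a • b + res b • a) =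
      (mpart res hres a : R) * mpart res hres b := by
    simp only [mpart, map_add, map_mul, Algebra.smul_def, res.commutes, Algebra.algebraMap_self, RingHom.id_apply]
    ring
  rw [h, sq]
  exact Ideal.mul_mem_mul (mpart res hres a).2 (mpart res hres b).2

theorem dPt_one : dPt res hres 1 = 0 := by
  have h := dPt_mul res hres 1 1
  rw [one_mul, show res 1 = (1 : k) from map_one res, one_smul] at h
  exact left_eq_add.1 h

variable {M : Type u} [AddCommGroup M] [Module k M] [Module kᵐᵒᵖ M] [SMulCommClass k kᵐᵒᵖ M] [IsCentralScalar k M]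

/-- A map from the cotangent space as a point in `k ⊕ M`. -/
def ptOf (l : IsLocalRing.CotangentSpace R →ₗ[k] M) : R →ₐ[k] TrivSqZeroExt k M where
  toFun r := (res r, l (dPt res hres r))
  map_one' := TrivSqZeroExt.ext (map_one res) (by
    change l (dPt res hres 1) = 0
    rw [dPt_one, map_zero])
  map_mul' a b := TrivSqZeroExt.ext (map_mul res a b) (by
    change l (dPt res hres (a * b)) = res a • l (dPt res hres b) + MulOpposite.op (res b) • l (dPt res hres a)
    rw [dPt_mul, map_add, map_smul, map_smul, op_smul_eq_smul])
  map_zero' := TrivSqZeroExt.ext (map_zero res) (by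
    change l (dPt res hres 0) = 0
    rw [map_zero, map_zero])
  map_add' a b := TrivSqZeroExt.ext (map_add res a b) (by
    change l (dPt res hres (a + b)) = l (dPt res hres a) + l (dPt res hres b)
    rw [map_add, map_add])
  commutes' c := TrivSqZeroExt.ext (res.commutes c) (by
    change l (dPt res hres (algebraMap k R c)) = TrivSqZeroExt.snd (algebraMap k (TrivSqZeroExt k M) c)
    rw [Algebra.algebraMap_eq_smul_one, map_smul, dPt_one, smul_zero, map_zero, TrivSqZeroExt.algebraMap_eq_inl']
    rfl)

theorem fst_ptOf (l : IsLocalRing.CotangentSpace R →ₗ[k] M) (r : R) : (ptOf res hres l r).fst = res r := rfl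
theorem snd_ptOf (l : IsLocalRing.CotangentSpace R →ₗ[k] M) (r : R) : (ptOf res hres l r).snd = l (dPt res hres r) := rfl

/-- The point over the dual numbers of a functional. -/
def pt1 (l : Module.Dual k (IsLocalRing.CotangentSpace R)) : HomSet R res (dual k k) :=
  ⟨ptOf res hres l, AlgHom.ext fun _ => rfl⟩

/-- The point over two infinitesimals of two functionals. -/
def pt2 (l : IsLocalRing.CotangentSpace R →ₗ[k] k × k) : HomSet R res (dual2 k k) :=
  ⟨ptOf res hres l, AlgHom.ext fun _ => rfl⟩

theorem pt1_bijective : Function.Bijective (pt1 res hres) := by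
  constructor
  · intro l l' h
    refine LinearMap.ext fun z => ?_
    obtain ⟨m, rfl⟩ := Ideal.toCotangent_surjective (maximalIdeal R) z
    have h2 := congrArg (fun φ : HomSet R res (dual k k) => TrivSqZeroExt.snd (R := k) (M := k) (φ.1 m.1)) h
    rw [← dPt_mem res hres m]
    exact h2
  · intro φ
    have hfst : ∀ r, TrivSqZeroExt.fst (R := k) (M := k) (φ.1 r) = res r := fun r => AlgHom.congr_fun φ.2 r
    let g : R →ₐ[k] DualNumber k := φ.1
    let s : maximalIdeal R →ₗ[k] k :=
      { toFun := fun m => (g m.1).snd
        map_add' := fun a b => by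
          change (g (a.1 + b.1)).snd = _
          rw [map_add]
          rfl
        map_smul' := fun c a => by
          change (g (c • a.1)).snd = _
          rw [map_smul]
          rfl }
    have hker : LinearMap.ker ((maximalIdeal R).toCotangent.restrictScalars k) ≤ LinearMap.ker s := fun m hm => by
      have hm' : m.1 ∈ maximalIdeal R ^ 2 := (Ideal.toCotangent_eq_zero _ m).1 hm
      change (g m.1).snd = 0
      rw [sq] at hm'
      refine Submodule.mul_induction_on hm' (fun a ha b hb => ?_) fun a b ha hb => ?_
      · rw [map_mul]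
        change (g a).fst * (g b).snd + (g a).snd * (g b).fst = 0
        rw [show (g a).fst = 0 from (hfst a).trans ((mem_max_iff res hres a).1 ha),
          show (g b).fst = 0 from (hfst b).trans ((mem_max_iff res hres b).1 hb), zero_mul, mul_zero, add_zero]
      · rw [map_add]
        change (g a).snd + (g b).snd = 0
        rw [ha, hb, add_zero]
    obtain ⟨l, hl⟩ : ∃ l : Module.Dual k (IsLocalRing.CotangentSpace R), ∀ m, l ((maximalIdeal R).toCotangent m) = s m := by
      let e := ((maximalIdeal R).toCotangent.restrictScalars k).quotKerEquivOfSurjective (Ideal.toCotangent_surjective _)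
      refine ⟨(Submodule.liftQ _ s hker) ∘ₗ e.symm.toLinearMap, fun m => ?_⟩
      have hm : e.symm ((maximalIdeal R).toCotangent m) = Submodule.Quotient.mk m := e.symm_apply_eq.2 rfl
      change Submodule.liftQ _ s hker (e.symm ((maximalIdeal R).toCotangent m)) = s m
      rw [hm]
      rfl
    refine ⟨l, Subtype.ext (AlgHom.ext fun r => TrivSqZeroExt.ext (hfst r).symm ?_)⟩
    change l (dPt res hres r) = (g r).snd
    refine (hl (mpart res hres r)).trans ?_
    change (g (r - algebraMap k R (res r))).snd = _
    rw [map_sub, AlgHom.commutes]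
    change (g r).snd - TrivSqZeroExt.snd (algebraMap k (DualNumber k) (res r)) = _
    rw [TrivSqZeroExt.algebraMap_eq_inl', TrivSqZeroExt.snd_inl, sub_zero]

theorem map_scale_pt1 (c : k) (l : Module.Dual k (IsLocalRing.CotangentSpace R)) :
    HomSet.map (scale c) (pt1 res hres l) = pt1 res hres (c • l) :=
  Subtype.ext (AlgHom.ext fun _ => rfl)

theorem map_pr₁_pt2 (l : IsLocalRing.CotangentSpace R →ₗ[k] k × k) :
    HomSet.map pr₁ (pt2 res hres l) = pt1 res hres (LinearMap.fst k k k ∘ₗ l) :=
  Subtype.ext (AlgHom.ext fun _ => rfl)

theorem map_pr₂_pt2 (l : IsLocalRing.CotangentSpace R →ₗ[k] k × k) :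
    HomSet.map pr₂ (pt2 res hres l) = pt1 res hres (LinearMap.snd k k k ∘ₗ l) :=
  Subtype.ext (AlgHom.ext fun _ => rfl)

theorem map_plus_pt2 (l : IsLocalRing.CotangentSpace R →ₗ[k] k × k) :
    HomSet.map plus (pt2 res hres l) = pt1 res hres (LinearMap.fst k k k ∘ₗ l + LinearMap.snd k k k ∘ₗ l) :=
  Subtype.ext (AlgHom.ext fun _ => rfl)

include hres in
/-- A linear identification of the points over the dual numbers gives the dimension of the cotangent space. -/
theorem finrank_cotangentSpace_eq_of_points {W : Type v} [AddCommGroup W] [Module k W]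
    (Φ : HomSet R res (dual k k) → W) (hΦ : Function.Bijective Φ)
    (hs : ∀ c φ, Φ (HomSet.map (scale c) φ) = c • Φ φ)
    (hp : ∀ χ : HomSet R res (dual2 k k), Φ (HomSet.map pr₁ χ) + Φ (HomSet.map pr₂ χ) = Φ (HomSet.map plus χ)) :
    Module.finrank (IsLocalRing.ResidueField R) (IsLocalRing.CotangentSpace R) = Module.finrank k W := by
  let E : Module.Dual k (IsLocalRing.CotangentSpace R) →ₗ[k] W :=
    { toFun := fun l => Φ (pt1 res hres l)
      map_add' := fun l l' => by
        have h := hp (pt2 res hres (l.prod l'))
        rw [map_pr₁_pt2, map_pr₂_pt2, map_plus_pt2] at h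
        exact h.symm
      map_smul' := fun c l => by rw [← map_scale_pt1, hs, RingHom.id_apply] }
  have hE : Function.Bijective E := hΦ.comp (pt1_bijective res hres)
  rw [← (LinearEquiv.ofBijective E hE).finrank_eq, Subspace.dual_finrank_eq]
  have hsurj : Function.Surjective (algebraMap k (IsLocalRing.ResidueField R)) := fun z => by
    obtain ⟨r, rfl⟩ := IsLocalRing.residue_surjective z
    refine ⟨res r, (Ideal.Quotient.eq.2 ?_)⟩
    rw [← neg_sub]
    exact neg_mem (mpart res hres r).2
  let e : k ≃+* IsLocalRing.ResidueField R :=
    RingEquiv.ofBijective (algebraMap k _) ⟨(algebraMap k _).injective, hsurj⟩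
  have : IsScalarTower k (IsLocalRing.ResidueField R) (IsLocalRing.CotangentSpace R) :=
    IsScalarTower.of_algebraMap_smul fun c z => by
      rw [IsScalarTower.algebraMap_apply k R (IsLocalRing.ResidueField R), IsScalarTower.algebraMap_smul,
        IsScalarTower.algebraMap_smul]
  rw [← Module.finrank_mul_finrank k (IsLocalRing.ResidueField R) (IsLocalRing.CotangentSpace R),
    show Module.finrank k (IsLocalRing.ResidueField R) = 1 from ?_, one_mul]
  rw [← (LinearEquiv.ofBijective (Algebra.linearMap k (IsLocalRing.ResidueField R)) e.bijective).finrank_eq,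
    Module.finrank_self]

end Groth.ArtfunDeform.HomTan
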