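import Groth.Agent.ArtfunDeform.HomTan.Linear
import Groth.Agent.ArtfunDeform.HomTan.Points
import Groth.Agent.ArtfunDeform.HilbPoint

/-!
The tangent space of a scheme of morphisms at a rational point.
-/

set_option autoImplicit false
set_option linter.style.longLine false

noncomputable section

universe u

open CategoryTheory CategoryTheory.Limits MonoidalCategory CartesianMonoidalCategory AlgebraicGeometry
open ArtFun ArtFun.Art
open Groth.ArtfunDeform.HilbPoint (resOver mapOver resOver_mapOver pt exists_res coefHom stalkAlg exists_fromSpecStalk specRes_closedPoint)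

namespace Groth.ArtfunDeform.HomTan

variable {k : Type u} [Field k] {M : Over (specPt k)} (h : Over.mk (𝟙 (specPt k)) ⟶ M)

/-- Arrows from an Artinian thickening through a point. -/
def ArrSet (A : Art k k) : Type u := {a : Over.mk (specOver A) ⟶ M // resOver A ≫ a = h}

/-- Functoriality. -/
def ArrSet.map {A B : Art k k} (g : A ⟶ B) (a : ArrSet h A) : ArrSet h B :=
  ⟨mapOver g ≫ a.1, by rw [← Category.assoc, resOver_mapOver]; exact a.2⟩

theorem exists_arr :
    letI := stalkAlg h
    ∃ (res : M.left.presheaf.stalk (pt h) →ₐ[k] k) (arr : ∀ A, HomSet (M.left.presheaf.stalk (pt h)) res A → ArrSet h A),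
      Function.Surjective res ∧ (∀ A, Function.Bijective (arr A)) ∧
        ∀ (A B : Art k k) (g : A ⟶ B) (φ : HomSet (M.left.presheaf.stalk (pt h)) res A),
          arr B (HomSet.map g φ) = ArrSet.map h g (arr A φ) := by
  let R := M.left.presheaf.stalk (pt h)
  let _ : Algebra k R := stalkAlg h
  have hcoef : Spec.map (coefHom h) = M.left.fromSpecStalk (pt h) ≫ M.hom := Spec.map_preimage _
  obtain ⟨r, hr⟩ := exists_res h
  have hr' : coefHom h ≫ r = 𝟙 _ := by
    refine Spec.map_injective ?_
    rw [Spec.map_comp, Spec.map_id, hcoef, ← Category.assoc, hr]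
    exact Over.w h
  let res : R →ₐ[k] k :=
    { r.hom with commutes' := fun c => ConcreteCategory.congr_hom hr' c }
  let arr : ∀ A : Art k k, HomSet R res A → ArrSet h A := fun A φ =>
    ⟨Over.homMk (Spec.map (CommRingCat.ofHom φ.1.toRingHom) ≫ M.left.fromSpecStalk (pt h)) (by
      change (Spec.map (CommRingCat.ofHom φ.1.toRingHom) ≫ M.left.fromSpecStalk (pt h)) ≫ M.hom = specMap (ofBase A)
      rw [Category.assoc, ← hcoef, ← Spec.map_comp]
      exact congrArg (fun f => Spec.map f) (CommRingCat.hom_ext (RingHom.ext fun c => φ.1.commutes c))),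
    Over.OverMorphism.ext (by
      change specRes A ≫ Spec.map _ ≫ M.left.fromSpecStalk (pt h) = h.left
      rw [← Category.assoc, ← Spec.map_comp, ← hr]
      refine congrArg (fun f => Spec.map f ≫ _) (CommRingCat.hom_ext (RingHom.ext fun c => ?_))
      exact congrArg (fun f : R →ₐ[k] k => f c) φ.2)⟩
  refine ⟨res, arr, fun c => ⟨algebraMap k R c, res.commutes c⟩, fun A => ⟨fun φ ψ e => ?_, fun a => ?_⟩,
    fun A B g φ => Subtype.ext (Over.OverMorphism.ext ?_)⟩
  · have e3 := congrArg (fun a : ArrSet h A => a.1.left) e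
    refine Subtype.ext (AlgHom.ext fun c => ?_)
    exact ConcreteCategory.congr_hom (Spec.map_injective ((cancel_mono (M.left.fromSpecStalk (pt h))).1 e3)) c
  · have hpt : a.1.left (IsLocalRing.closedPoint A) = pt h := by
      rw [← specRes_closedPoint A]
      exact congrArg (fun f : Over.mk (𝟙 (specPt k)) ⟶ M => f.left (IsLocalRing.closedPoint k)) a.2
    obtain ⟨φ, hφ⟩ := exists_fromSpecStalk (B := CommRingCat.of A) a.1.left hpt
    have hφk : coefHom h ≫ φ = CommRingCat.ofHom (algebraMap k A) := by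
      refine Spec.map_injective ?_
      rw [Spec.map_comp, hcoef, ← Category.assoc, hφ]
      exact Over.w a.1
    let φ' : R →ₐ[k] A := { φ.hom with commutes' := fun c => ConcreteCategory.congr_hom hφk c }
    have hφres : A.res.comp φ' = res := by
      have e1 : Spec.map (φ ≫ CommRingCat.ofHom A.res.toRingHom) ≫ M.left.fromSpecStalk (pt h) = h.left := by
        rw [Spec.map_comp, Category.assoc, hφ]
        exact congrArg CommaMorphism.left a.2
      have e2 := Spec.map_injective ((cancel_mono (M.left.fromSpecStalk (pt h))).1 (e1.trans hr.symm))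
      exact AlgHom.ext fun c => ConcreteCategory.congr_hom e2 c
    exact ⟨⟨φ', hφres⟩, Subtype.ext (Over.OverMorphism.ext hφ)⟩
  · change Spec.map _ ≫ M.left.fromSpecStalk (pt h) = specMap g ≫ Spec.map _ ≫ M.left.fromSpecStalk (pt h)
    rw [← Category.assoc, ← Spec.map_comp]
    rfl

variable {X Y : Scheme.{u}} {x : X ⟶ specPt k} {y : Y ⟶ specPt k} {f : X ⟶ Y} (hf : f ≫ y = x)
  (υ : Over.mk x ⊗ M ⟶ Over.mk y)
  (hM : ∀ (T : Over (specPt k)) (φ : Over.mk x ⊗ T ⟶ Over.mk y), ∃! a : T ⟶ M, (Over.mk x ◁ a) ≫ υ = φ)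
  (hh : (Over.mk x ◁ h) ≫ υ = (ρ_ (Over.mk x)).hom ≫ (Over.homMk f hf : Over.mk x ⟶ Over.mk y))

/-- The morphism of an arrow. -/
def famMap (A : Art k k) (a : Over.mk (specOver A) ⟶ M) : XA x A ⟶ Y := ((Over.mk x ◁ a) ≫ υ).left

theorem famMap_y (A : Art k k) (a : Over.mk (specOver A) ⟶ M) : famMap υ A a ≫ y = XApr x A ≫ specOver A :=
  (Over.w ((Over.mk x ◁ a) ≫ υ)).trans (pullback.condition (f := x) (g := specOver A))

theorem famMap_map {A B : Art k k} (g : A ⟶ B) (a : Over.mk (specOver A) ⟶ M) :
    famMap υ B (mapOver g ≫ a) = XAmap x g ≫ famMap υ A a := by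
  unfold famMap
  rw [MonoidalCategory.whiskerLeft_comp, Category.assoc]
  rfl

/-- The closed fibre in the product. -/
abbrev inclOne : X ⟶ (Over.mk x ⊗ Over.mk (𝟙 (specPt k))).left :=
  pullback.lift (f := x) (g := 𝟙 (specPt k)) (𝟙 X) x (by simp)

theorem incl_whisker (A : Art k k) :
    inclOne (x := x) ≫ (Over.mk x ◁ resOver A).left = XAincl x A := by
  apply pullback.hom_ext
  · rw [Category.assoc, Over.whiskerLeft_left_fst]
    exact (pullback.lift_fst _ _ _).trans (XAincl_fst x A).symm
  · rw [Category.assoc, Over.whiskerLeft_left_snd]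
    refine ((Category.assoc _ _ _).symm.trans (congrArg (· ≫ _) (pullback.lift_snd _ _ _))).trans ?_
    exact (XAincl_snd x A).symm

include hh in
theorem incl_famMap {A : Art k k} {a : Over.mk (specOver A) ⟶ M} (ha : resOver A ≫ a = h) :
    XAincl x A ≫ famMap υ A a = f := by
  rw [← incl_whisker A, Category.assoc, famMap, ← Over.comp_left, ← Category.assoc, ← MonoidalCategory.whiskerLeft_comp, ha, hh]
  change inclOne (x := x) ≫ pullback.fst x (𝟙 (specPt k)) ≫ f = f
  rw [pullback.lift_fst_assoc, Category.id_comp]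

/-- The morphism set of an arrow set. -/
def toMor (A : Art k k) (a : ArrSet h A) : MorSet y f x A :=
  ⟨famMap υ A a.1, incl_famMap h hf υ hh a.2, famMap_y υ A a.1⟩

include hM in
theorem toMor_bijective (A : Art k k) : Function.Bijective (toMor h hf υ hh A) := by
  refine ⟨fun a b e => ?_, fun φ => ?_⟩
  · exact Subtype.ext ((hM _ ((Over.mk x ◁ a.1) ≫ υ)).unique rfl (Over.OverMorphism.ext (congrArg Subtype.val e).symm))
  · obtain ⟨a, ha, -⟩ := hM (Over.mk (specOver A)) (Over.homMk φ.1 (φ.2.2.trans (pullback.condition (f := x) (g := specOver A)).symm))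
    have ha' : famMap υ A a = φ.1 := congrArg CommaMorphism.left ha
    refine ⟨⟨a, (hM _ ((Over.mk x ◁ h) ≫ υ)).unique ?_ rfl⟩, Subtype.ext ha'⟩
    refine Over.OverMorphism.ext ?_
    rw [MonoidalCategory.whiskerLeft_comp, Category.assoc, ha, hh]
    change (Over.mk x ◁ resOver A).left ≫ φ.1 = pullback.fst x (𝟙 (specPt k)) ≫ f
    have : IsIso (pullback.fst x (𝟙 (specPt k))) := inferInstance
    have hi : pullback.fst x (𝟙 (specPt k)) ≫ inclOne (x := x) = 𝟙 _ := by
      apply pullback.hom_ext
      · refine (Category.assoc _ _ _).trans ((congrArg (_ ≫ ·) (pullback.lift_fst _ _ _)).trans ?_)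
        exact (Category.comp_id _).trans (Category.id_comp _).symm
      · refine (Category.assoc _ _ _).trans ((congrArg (_ ≫ ·) (pullback.lift_snd _ _ _)).trans ?_)
        exact (pullback.condition.trans (Category.comp_id _)).trans (Category.id_comp _).symm
    obtain ⟨ψ, hψ, -⟩ := φ
    refine Eq.trans ?_ (congrArg (pullback.fst x (𝟙 (specPt k)) ≫ ·) hψ)
    refine Eq.trans ?_ (congrArg (fun z => pullback.fst x (𝟙 (specPt k)) ≫ z ≫ ψ) (incl_whisker A))
    rw [Category.assoc, reassoc_of% hi]

theorem toMor_map {A B : Art k k} (g : A ⟶ B) (a : ArrSet h A) :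
    toMor h hf υ hh B (ArrSet.map h g a) = (toMor h hf υ hh A a).map g :=
  Subtype.ext (famMap_map υ g a.1)

include hM hh in
/-- The tangent space of a scheme of morphisms. -/
theorem finrank_cotangentSpace_eq [QuasiSeparated y] :
    Module.finrank (IsLocalRing.ResidueField (M.left.presheaf.stalk (pt h))) (IsLocalRing.CotangentSpace (M.left.presheaf.stalk (pt h))) =
      (letI : Y.Over (Spec (CommRingCat.of k)) := ⟨y⟩
      Module.finrank k (Wt y f)) := by
  let _ : Y.Over (Spec (CommRingCat.of k)) := ⟨y⟩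
  let _ : Algebra k (M.left.presheaf.stalk (pt h)) := stalkAlg h
  obtain ⟨res, arr, hres, harr, hnat⟩ := exists_arr h
  refine finrank_cotangentSpace_eq_of_points res hres
    (fun φ => toW hf (toMor h hf υ hh _ (arr _ φ)))
    ((toW_bijective hf).comp ((toMor_bijective h hf υ hM hh _).comp (harr _))) (fun c φ => ?_) fun χ => ?_
  · rw [hnat, toMor_map]
    exact toW_scale hf c _
  · rw [hnat, hnat, hnat, toMor_map, toMor_map, toMor_map]
    exact toW_plus hf _

end Groth.ArtfunDeform.HomTan
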