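import Groth.Agent.ArtfunDeform.HilbTangentLinear
import Groth.Prelude.Def_Omega3
import Groth.Prelude.Def_Omega4

/-!
Morphisms out of `X ×_k Spec k[ε]` from derivations.
-/

set_option autoImplicit false
set_option linter.style.longLine false

noncomputable section

universe u

open CategoryTheory CategoryTheory.Limits AlgebraicGeometry Opposite
open ArtFun ArtFun.Art

namespace Groth.ArtfunDeform.HomTan

open HilbAffine HilbGlue HilbTangent
open Groth.PicAux (resX)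

/-- Morphisms which agree on affine charts are equal. -/
theorem hom_ext_appLE {T N : Scheme.{u}} (a b : T ⟶ N) (hbase : ∀ z, a z = b z)
    (h : ∀ (V : N.affineOpens) (U : T.affineOpens) (ea : U.1 ≤ a ⁻¹ᵁ V.1) (eb : U.1 ≤ b ⁻¹ᵁ V.1),
      a.appLE V.1 U.1 ea = b.appLE V.1 U.1 eb) : a = b := by
  have hloc : ∀ z : T, ∃ U : T.affineOpens, z ∈ U.1 ∧ ∃ V : N.affineOpens, U.1 ≤ a ⁻¹ᵁ V.1 ∧ U.1 ≤ b ⁻¹ᵁ V.1 := fun z => by
    obtain ⟨V, hzV, -⟩ := Groth.Divisors.exists_affine_le (a z) ⊤ trivial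
    have hz : z ∈ a ⁻¹ᵁ V.1 ⊓ b ⁻¹ᵁ V.1 := ⟨hzV, show b z ∈ V.1 by rw [← hbase]; exact hzV⟩
    obtain ⟨U, hzU, hU⟩ := Groth.Divisors.exists_affine_le z _ hz
    exact ⟨U, hzU, V, hU.trans inf_le_left, hU.trans inf_le_right⟩
  choose U hU V ha hb using hloc
  refine Scheme.Cover.hom_ext (T.openCoverOfIsOpenCover (fun z => (U z).1)
    (top_unique fun z _ => TopologicalSpace.Opens.mem_iSup.2 ⟨z, hU z⟩)) _ _ fun (z : T) => ?_
  change (U z).1.ι ≫ a = (U z).1.ι ≫ b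
  have hUa : IsAffineOpen (U z).1 := (U z).2
  rw [← cancel_epi hUa.isoSpec.inv, ← Category.assoc, ← Category.assoc, IsAffineOpen.isoSpec_inv_ι,
    ← IsAffineOpen.SpecMap_appLE_fromSpec a (V z).2 hUa (ha z),
    ← IsAffineOpen.SpecMap_appLE_fromSpec b (V z).2 hUa (hb z), h]

variable {k : Type u} [Field k] {X Y : Scheme.{u}} (x : X ⟶ specPt k) (y : Y ⟶ specPt k) (f : X ⟶ Y)

local notation "D" => (ArtFun.Art.dual k k)

/-- The projection. -/
abbrev pr : XA x D ⟶ X := pullback.fst x (specOver D)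

/-- The infinitesimal as a global function. -/
def epsT : Γ(XA x D, ⊤) := ((Scheme.ΓSpecIso (CommRingCat.of D)).inv ≫ (XApr x D).appTop).hom eps

theorem epsT_sq : epsT x * epsT x = 0 := by
  rw [epsT, ← map_mul, show (eps : D) * eps = 0 from eps_kill _ ((mem_maximal_dual _).2 rfl), map_zero]

/-- The infinitesimal on an open. -/
def epsO (W : (XA x D).Opens) : Γ(XA x D, W) := resX _ (le_top : W ≤ ⊤) (epsT x)

theorem epsO_sq (W : (XA x D).Opens) : epsO x W * epsO x W = 0 := by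
  rw [epsO, ← map_mul, epsT_sq, map_zero]

theorem epsO_res {W W' : (XA x D).Opens} (h : W' ≤ W) : resX _ h (epsO x W) = epsO x W' :=
  Groth.PicAux.resX_resX _ _ _

theorem epsO_pre (U : X.affineOpens) : epsO x (pre x D U).1 = ce x U := by
  have h := ConcreteCategory.congr_hom (Scheme.Hom.appLE_map (XApr x D) (U := ⊤) (V := ⊤) le_top
    (homOfLE (le_top : (pre x D U).1 ≤ ⊤)).op) ((Scheme.ΓSpecIso (CommRingCat.of D)).inv.hom eps)
  refine Eq.trans ?_ h
  simp only [epsO, epsT, Scheme.Hom.appTop, Scheme.Hom.app_eq_appLE, resX]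
  rfl

/-- A derivation of `O_Y` into `f_* O_X` on sections, valued in functions. -/
def dl (δ : OmegaSh.Der y ((Scheme.Modules.pushforward f).obj (Coh.structureModule X))) (V : Y.Opens) :
    Γ(Y, V) →+ Γ(X, f ⁻¹ᵁ V) :=
  (OmegaSh.fnSect X (f ⁻¹ᵁ V)).comp (δ.app V)

variable (δ : OmegaSh.Der y ((Scheme.Modules.pushforward f).obj (Coh.structureModule X)))

theorem dl_mul (V : Y.Opens) (a b : Γ(Y, V)) :
    dl y f δ V (a * b) = f.app V a * dl y f δ V b + f.app V b * dl y f δ V a :=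
  δ.d_mul (X := op V) a b

theorem dl_one (V : Y.Opens) : dl y f δ V 1 = 0 := by
  have h := dl_mul y f δ V 1 1
  rw [mul_one, show (f.app V).hom 1 = 1 from map_one _, one_mul] at h
  exact left_eq_add.1 h

theorem dl_res {V V' : Y.Opens} (h : V' ≤ V) (a : Γ(Y, V)) :
    dl y f δ V' (resX Y h a) = resX X (show f ⁻¹ᵁ V' ≤ f ⁻¹ᵁ V from fun _ hz => h hz) (dl y f δ V a) :=
  δ.d_map (homOfLE h).op a

/-- The comorphism. -/
def cRing (V : Y.Opens) : Γ(Y, V) →+* Γ(XA x D, pr x ⁻¹ᵁ f ⁻¹ᵁ V) where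
  toFun s := (pr x).app (f ⁻¹ᵁ V) (f.app V s) + epsO x _ * (pr x).app (f ⁻¹ᵁ V) (dl y f δ V s)
  map_one' := by rw [dl_one, map_zero, mul_zero, add_zero, map_one, map_one]
  map_zero' := by simp
  map_add' a b := by rw [map_add, map_add, map_add, map_add]; ring
  map_mul' a b := by
    rw [dl_mul, map_mul, map_mul, map_add, map_mul, map_mul]
    linear_combination (- ((pr x).app (f ⁻¹ᵁ V) (dl y f δ V a) * (pr x).app (f ⁻¹ᵁ V) (dl y f δ V b))) *
      epsO_sq x (pr x ⁻¹ᵁ f ⁻¹ᵁ V)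

theorem pr_app_res {W W' : X.Opens} (h : W' ≤ W) (a : Γ(X, W)) :
    resX (XA x D) (show pr x ⁻¹ᵁ W' ≤ pr x ⁻¹ᵁ W from fun _ hz => h hz) ((pr x).app W a) = (pr x).app W' (resX X h a) :=
  (ConcreteCategory.congr_hom ((pr x).naturality (homOfLE h).op) a).symm

theorem f_app_res {V V' : Y.Opens} (h : V' ≤ V) (a : Γ(Y, V)) :
    resX X (show f ⁻¹ᵁ V' ≤ f ⁻¹ᵁ V from fun _ hz => h hz) (f.app V a) = f.app V' (resX Y h a) :=
  (ConcreteCategory.congr_hom (f.naturality (homOfLE h).op) a).symm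

theorem cRing_res {V V' : Y.Opens} (h : V' ≤ V) (a : Γ(Y, V)) :
    cRing x y f δ V' (resX Y h a) =
      resX (XA x D) (show pr x ⁻¹ᵁ f ⁻¹ᵁ V' ≤ pr x ⁻¹ᵁ f ⁻¹ᵁ V from fun _ hz => h hz) (cRing x y f δ V a) := by
  simp only [cRing, RingHom.coe_mk, MonoidHom.coe_mk, OneHom.coe_mk]
  rw [map_add, map_mul, epsO_res, pr_app_res x (fun _ hz => h hz), pr_app_res x (fun _ hz => h hz), f_app_res f h,
    dl_res y f δ h]

/-- The morphism of presheafed spaces. -/
def morPS : (XA x D).toPresheafedSpace ⟶ Y.toPresheafedSpace where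
  base := (pr x ≫ f).base
  c :=
    { app := fun V => CommRingCat.ofHom (cRing x y f δ V.unop)
      naturality := fun _ _ i => CommRingCat.hom_ext (RingHom.ext fun a => cRing_res x y f δ i.unop.le a) }

theorem morPS_isLocalHom (z : XA x D) :
    IsLocalHom ((morPS x y f δ).stalkMap z).hom := by
  refine ⟨fun a ha => ?_⟩
  obtain ⟨V, hz, s, rfl⟩ := Y.presheaf.exists_germ_eq a
  have e1 : (morPS x y f δ).stalkMap z (Y.presheaf.germ V _ hz s) =
      (XA x D).presheaf.germ (pr x ⁻¹ᵁ f ⁻¹ᵁ V) z hz (cRing x y f δ V s) :=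
    ConcreteCategory.congr_hom (PresheafedSpace.stalkMap_germ (morPS x y f δ) V z hz) s
  have e2 : ((pr x ≫ f).stalkMap z).hom (Y.presheaf.germ V _ hz s) =
      (XA x D).presheaf.germ (pr x ⁻¹ᵁ f ⁻¹ᵁ V) z hz ((pr x).app (f ⁻¹ᵁ V) (f.app V s)) :=
    ConcreteCategory.congr_hom ((pr x ≫ f).germ_stalkMap V z hz) s
  have e3 : cRing x y f δ V s = (pr x).app (f ⁻¹ᵁ V) (f.app V s) + epsO x _ * (pr x).app (f ⁻¹ᵁ V) (dl y f δ V s) := rfl
  have : IsLocalHom ((pr x ≫ f).stalkMap z).hom := inferInstance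
  refine this.map_nonunit _ ?_
  change IsUnit ((morPS x y f δ).stalkMap z (Y.presheaf.germ V _ hz s)) at ha
  rw [e1, e3, map_add, map_mul] at ha
  rw [e2]
  have hn : IsNilpotent ((XA x D).presheaf.germ _ z hz (epsO x (pr x ⁻¹ᵁ f ⁻¹ᵁ V)) *
      (XA x D).presheaf.germ _ z hz ((pr x).app (f ⁻¹ᵁ V) (dl y f δ V s))) :=
    ⟨2, by rw [mul_pow, sq, ← map_mul, epsO_sq, map_zero, zero_mul]⟩
  have h := IsNilpotent.isUnit_add_left_of_commute hn.neg ha (Commute.all _ _)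
  rwa [add_neg_cancel_right] at h

/-- The morphism attached to a derivation. -/
def mor : XA x D ⟶ Y := Scheme.Hom.mk ⟨morPS x y f δ, morPS_isLocalHom x y f δ⟩

theorem mor_appLE (V : Y.Opens) (U : X.affineOpens) (e : U.1 ≤ f ⁻¹ᵁ V) (e' : (pre x D U).1 ≤ mor x y f δ ⁻¹ᵁ V) (s : Γ(Y, V)) :
    (mor x y f δ).appLE V (pre x D U).1 e' s =
      sect x D U (f.appLE V U.1 e s) + ce x U * sect x D U (resX X e (dl y f δ V s)) := by
  have h1 : (mor x y f δ).appLE V (pre x D U).1 e' s = resX (XA x D) (show (pre x D U).1 ≤ pr x ⁻¹ᵁ f ⁻¹ᵁ V from fun _ hz => e hz) (cRing x y f δ V s) := rfl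
  rw [h1]
  simp only [cRing, RingHom.coe_mk, MonoidHom.coe_mk, OneHom.coe_mk]
  rw [map_add, map_mul, epsO_res, epsO_pre]
  have hs : ∀ t : Γ(X, f ⁻¹ᵁ V), resX (XA x D) (show (pre x D U).1 ≤ pr x ⁻¹ᵁ f ⁻¹ᵁ V from fun _ hz => e hz)
      ((pr x).app (f ⁻¹ᵁ V) t) = sect x D U (resX X e t) := fun t =>
    (pr_app_res x e t).trans (ConcreteCategory.congr_hom (Scheme.Hom.app_eq_appLE (f := pr x) (U := U.1)) (resX X e t))
  rw [hs, hs]
  rfl

theorem incl_mor : XAincl x D ≫ mor x y f δ = f := by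
  refine hom_ext_appLE _ _ (fun z => ?_) fun V U ea eb => CommRingCat.hom_ext (RingHom.ext fun s => ?_)
  · change f (pr x (XAincl x D z)) = f z
    rw [← Scheme.Hom.comp_apply (XAincl x D) (pr x), XAincl_fst]
    rfl
  · have hpre : (pre x D U).1 ≤ mor x y f δ ⁻¹ᵁ V.1 := fun z hz => eb hz
    rw [← Scheme.Hom.appLE_comp_appLE _ _ V.1 (pre x D U).1 U.1 hpre (incl_pre x D U).ge]
    change fib x D U ((mor x y f δ).appLE V.1 (pre x D U).1 hpre s) = _
    rw [mor_appLE x y f δ V.1 U eb hpre, fib_lc]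

theorem mor_comp (hf : f ≫ y = x) : mor x y f δ ≫ y = XApr x D ≫ specOver D := by
  refine Eq.trans (ext_of_isAffine (g := (pr x ≫ f) ≫ y) (CommRingCat.hom_ext (RingHom.ext fun c => ?_))) ?_
  · have h0 : dl y f δ (y ⁻¹ᵁ ⊤) (y.app ⊤ c) = 0 := δ.d_app (X := op ⊤) c
    change cRing x y f δ (y ⁻¹ᵁ ⊤) (y.app ⊤ c) = (pr x).app _ (f.app _ (y.app ⊤ c))
    simp only [cRing, RingHom.coe_mk, MonoidHom.coe_mk, OneHom.coe_mk]
    rw [h0, map_zero, mul_zero, add_zero]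
  · rw [Category.assoc, hf]
    exact pullback.condition (f := x) (g := specOver D)

end Groth.ArtfunDeform.HomTan
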